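import Cfsg.Agent.H8.Ch.Pot
import Cfsg.Agent.H2.NU0

/-! Tangent line form of the potential bound. -/

set_option autoImplicit false
set_option linter.unusedSectionVars false

namespace Cfsg.Agent.H8.Pot

open MulAction Real

variable {X Ω : Type*} [Group X] [MulAction X Ω] [Fintype X] [Fintype Ω]

theorem lA1 [IsPretransitive X Ω] [Nonempty Ω] (H : Subgroup X) (ω : Ω) :
    ∑ g : X, Real.log (orbit H (g • ω)).ncard ≤
      Fintype.card X * Real.log (YY (Ω := Ω) H / Fintype.card Ω) := by
  have hN : (0 : ℝ) < Fintype.card Ω := by exact_mod_cast Fintype.card_pos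
  have hX : (0 : ℝ) < Fintype.card X := by exact_mod_cast Fintype.card_pos
  have h1 := avg (X := X) Finset.univ (fun _ _ _ => Finset.mem_univ _)
    (fun a _ b _ => exists_smul_eq X a b) (fun u : Ω => Real.log (orbit H u).ncard) ω
    (Finset.mem_univ _)
  rw [Finset.card_univ] at h1
  have h2 := mul_le_mul_of_nonneg_left (log_sum (Ω := Ω) H) hX.le
  refine le_of_mul_le_mul_left ?_ hN
  rw [h1]
  linarith

theorem lA2 [Nonempty Ω] (ω : Ω) {ε : ℝ} (h : ∀ u v : Ω, u ≠ v → ε * Fintype.card X ≤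
      {g : X | ∀ x : X, x • g • ω = g • ω → x • u ≠ v}.ncard) (H : Subgroup X) :
    ∑ g : X, (YY (Ω := Ω) (H ⊓ stabilizer X (g • ω) : Subgroup X) / Fintype.card Ω - 1) ≤
      Fintype.card X * ((1 - ε) * (YY (Ω := Ω) H / Fintype.card Ω - 1)) := by
  classical
  have hN : (0 : ℝ) < Fintype.card Ω := by exact_mod_cast Fintype.card_pos
  let K : X → Subgroup X := fun g => H ⊓ stabilizer X (g • ω)
  have a2 : ∑ g : X, YY (Ω := Ω) (K g) ≤
      Fintype.card X * ((1 - ε) * YY (Ω := Ω) H + ε * Fintype.card Ω) := by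
    have h1 : ∀ u v : Ω, (∑ g : X, if v ∈ orbit (K g) u then (1 : ℝ) else 0) ≤
        Fintype.card X * ((1 - ε) * (if v ∈ orbit H u then (1 : ℝ) else 0) +
          ε * if u = v then 1 else 0) := by
      intro u v
      by_cases huv : u = v
      · subst huv
        simp [mem_orbit_self]
      by_cases hv : v ∈ orbit H u
      · have h2 := h u v huv
        rw [← ind_sum] at h2
        have h3 : ∑ g : X, ((if v ∈ orbit (K g) u then (1 : ℝ) else 0) +
            if g ∈ {g : X | ∀ x : X, x • g • ω = g • ω → x • u ≠ v} then 1 else 0) ≤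
            ∑ _g : X, (1 : ℝ) := Finset.sum_le_sum fun g _ => by
          split_ifs with h4 h5
          · obtain ⟨x, rfl⟩ := h4
            exact absurd rfl (h5 x x.2.2)
          all_goals norm_num
        rw [Finset.sum_add_distrib] at h3
        simp only [Finset.sum_const, Finset.card_univ, nsmul_eq_mul, mul_one] at h3
        simp only [hv, huv, if_true, if_false]
        linarith
      · have : ∀ g, v ∉ orbit (K g) u := by
          rintro g ⟨x, rfl⟩
          exact hv ⟨⟨x, x.2.1⟩, rfl⟩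
        simp [this, hv, huv]
    unfold YY
    rw [Finset.sum_comm]
    refine (Finset.sum_le_sum fun u _ => (Finset.sum_comm.le.trans
      (Finset.sum_le_sum fun v _ => h1 u v))).trans (le_of_eq ?_)
    simp only [← Finset.mul_sum, Finset.sum_add_distrib, Finset.sum_ite_eq, Finset.mem_univ, if_true,
      Finset.sum_const, Finset.card_univ, nsmul_eq_mul, mul_one]
    ring
  rw [Finset.sum_sub_distrib, ← Finset.sum_div]
  simp only [Finset.sum_const, Finset.card_univ, nsmul_eq_mul, mul_one]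
  have h2 : (∑ g : X, YY (Ω := Ω) (K g)) / Fintype.card Ω ≤
      Fintype.card X * ((1 - ε) * (YY (Ω := Ω) H / Fintype.card Ω) + ε) := by
    rw [div_le_iff₀ hN]
    refine a2.trans (le_of_eq ?_)
    field_simp
  linarith

theorem lstep (H : Subgroup X) (ω : Ω) :
    Real.log (Nat.card H) ≤ Real.log (Nat.card (H ⊓ stabilizer X ω : Subgroup X)) +
      Real.log (orbit H ω).ncard := by
  simpa using log_step H fun _ : Fin 1 => ω

theorem lbase [FaithfulSMul X Ω] [IsPretransitive X Ω] [Nonempty Ω] (ω : Ω) {ε : ℝ} (hε : 0 < ε)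
    (h : ∀ u v : Ω, u ≠ v → ε * Fintype.card X ≤
      {g : X | ∀ x : X, x • g • ω = g • ω → x • u ≠ v}.ncard) (H : Subgroup X) :
    ε * Real.log (Nat.card H) ≤ YY (Ω := Ω) H / Fintype.card Ω - 1 := by
  have hN : (0 : ℝ) < Fintype.card Ω := by exact_mod_cast Fintype.card_pos
  have hX : (0 : ℝ) < Fintype.card X := by exact_mod_cast Fintype.card_pos
  have y1 : ∀ H : Subgroup X, 1 ≤ YY (Ω := Ω) H / Fintype.card Ω := fun H =>
    (one_le_div hN).2 (YY_ge H)
  induction H using WellFoundedLT.induction with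
  | ind H ih =>
  by_contra hc
  push Not at hc
  let K : X → Subgroup X := fun g => H ⊓ stabilizer X (g • ω)
  set y := YY (Ω := Ω) H / Fintype.card Ω with hy
  let t : X → ℝ := fun g => ε * Real.log (orbit H (g • ω)).ncard +
    (YY (Ω := Ω) (K g) / Fintype.card Ω - 1)
  have t1 : ∀ g, K g < H → y - 1 < t g := by
    intro g hg
    have h1 := ih _ hg
    have h2 := mul_le_mul_of_nonneg_left (lstep H (g • ω)) hε.le
    simp only [t]
    rw [mul_add] at h2
    linarith
  have t2 : ∀ g, y - 1 ≤ t g := by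
    intro g
    rcases (show K g ≤ H from inf_le_left).eq_or_lt with hg | hg
    · simp only [t, hg]
      have : 0 ≤ Real.log (orbit H (g • ω)).ncard := Real.log_nonneg (orb_pos _ _)
      nlinarith
    · exact (t1 g hg).le
  have t3 : ∃ g, K g < H := by
    have hH : H ≠ ⊥ := by
      rintro rfl
      have := y1 ⊥
      simp only [Subgroup.card_bot, Nat.cast_one, Real.log_one, mul_zero] at hc
      linarith
    obtain ⟨⟨x, hx⟩, hx1⟩ := Subgroup.ne_bot_iff_exists_ne_one.1 hH
    obtain ⟨u, hu⟩ : ∃ u : Ω, u ≠ x • u := by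
      by_contra hu
      push Not at hu
      exact hx1 (Subtype.ext (FaithfulSMul.eq_of_smul_eq_smul (α := Ω) fun ω => by
        rw [OneMemClass.coe_one, one_smul]; exact (hu ω).symm))
    have h1 := h u _ hu
    have h2 : (0 : ℝ) < ε * Fintype.card X := mul_pos hε hX
    obtain ⟨g, hg⟩ := Set.nonempty_of_ncard_ne_zero (s := {g : X | ∀ x' : X,
      x' • g • ω = g • ω → x' • u ≠ x • u}) (by
        intro e
        rw [e] at h1
        simp only [Nat.cast_zero] at h1
        linarith)
    exact ⟨g, lt_of_le_of_ne inf_le_left fun e => hg x (e ▸ hx : x ∈ K g).2 rfl⟩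
  have lo : Fintype.card X * (y - 1) < ∑ g, t g := by
    obtain ⟨g, hg⟩ := t3
    have := Finset.sum_lt_sum (s := Finset.univ) (fun g _ => t2 g) ⟨g, Finset.mem_univ _, t1 g hg⟩
    simpa only [Finset.sum_const, Finset.card_univ, nsmul_eq_mul] using this
  have a1 := mul_le_mul_of_nonneg_left (lA1 H ω) hε.le
  have a2 := lA2 ω h H
  have a3 := mul_le_mul_of_nonneg_left (Real.log_le_sub_one_of_pos (x := y) (by linarith [y1 H]))
    (mul_pos hX hε).le
  simp only [t] at lo
  rw [Finset.sum_add_distrib, ← Finset.mul_sum] at lo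
  nlinarith

theorem lind [FaithfulSMul X Ω] [IsPretransitive X Ω] [Nonempty Ω] (ω : Ω) {d : ℕ} (hd : 0 < d)
    (hdm : d ≤ Fintype.card Ω) (h : ∀ u v : Ω, u ≠ v → (d : ℝ) / Fintype.card Ω * Fintype.card X ≤
      {g : X | ∀ x : X, x • g • ω = g • ω → x • u ≠ v}.ncard) (l : List ℝ) (hl : ∀ y ∈ l, 1 ≤ y) :
    0 ≤ (H2.NU.LN (Fintype.card Ω) d l).2 ∧ ∀ H : Subgroup X, Real.log (Nat.card H) ≤
      (H2.NU.LN (Fintype.card Ω) d l).1 +
        (H2.NU.LN (Fintype.card Ω) d l).2 * (YY (Ω := Ω) H / Fintype.card Ω - 1) := by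
  have hN : (0 : ℝ) < Fintype.card Ω := by exact_mod_cast Fintype.card_pos
  have hX : (0 : ℝ) < Fintype.card X := by exact_mod_cast Fintype.card_pos
  have hd' : (0 : ℝ) < d := by exact_mod_cast hd
  induction l with
  | nil =>
    refine ⟨by simp only [H2.NU.LN]; positivity, fun H => ?_⟩
    have h1 := mul_le_mul_of_nonneg_left (lbase ω (div_pos hd' hN) h H) (div_pos hN hd').le
    have e : (Fintype.card Ω : ℝ) / d * (d / Fintype.card Ω * Real.log (Nat.card H)) =
        Real.log (Nat.card H) := by field_simp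
    rw [e] at h1
    simpa only [H2.NU.LN, zero_add] using h1
  | cons y l ih =>
    obtain ⟨b0, ih⟩ := ih fun z hz => hl z (List.mem_cons_of_mem _ hz)
    have hy : 1 ≤ y := hl y List.mem_cons_self
    have he : 0 ≤ 1 - (d : ℝ) / Fintype.card Ω := by
      rw [sub_nonneg, div_le_one hN]; exact_mod_cast hdm
    simp only [H2.NU.LN]
    generalize H2.NU.LN (Fintype.card Ω) d l = P at *
    refine ⟨by positivity, fun H => ?_⟩
    have s1 := Finset.sum_le_sum (s := Finset.univ) fun (g : X) _ =>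
      (lstep H (g • ω)).trans (add_le_add_left (ih (H ⊓ stabilizer X (g • ω))) _)
    rw [Finset.sum_add_distrib, Finset.sum_add_distrib, ← Finset.mul_sum] at s1
    simp only [Finset.sum_const, Finset.card_univ, nsmul_eq_mul] at s1
    have a1 := lA1 H ω
    have a2 := mul_le_mul_of_nonneg_left (lA2 ω h H) b0
    have y1 : 1 ≤ YY (Ω := Ω) H / Fintype.card Ω := (one_le_div hN).2 (YY_ge H)
    generalize YY (Ω := Ω) H / Fintype.card Ω = z at *
    have a3 := Real.log_le_sub_one_of_pos (x := z / y) (by positivity)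
    rw [Real.log_div (by positivity) (by positivity)] at a3
    have a4 := mul_le_mul_of_nonneg_left a3 hX.le
    refine le_of_mul_le_mul_left ?_ hX
    have e : z / y = 1 / y + 1 / y * (z - 1) := by field_simp; ring
    rw [e] at a4
    nlinarith

theorem line {X Ω : Type*} [Group X] [MulAction X Ω] [Finite X] [Finite Ω] [FaithfulSMul X Ω]
    [IsPretransitive X Ω] (hm : 2 ≤ Nat.card Ω) (d : ℕ) (hd : 0 < d)
    (h : ∀ u v : Ω, u ≠ v → d ≤ {z : Ω | ∀ x : X, x • z = z → x • u ≠ v}.ncard) (l : List ℝ)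
    (hl : ∀ y ∈ l, 1 ≤ y) : Real.log (Nat.card X) ≤ (H2.NU.LN (Nat.card Ω) d l).1 +
      (H2.NU.LN (Nat.card Ω) d l).2 * ((Nat.card Ω : ℝ) - 1) := by
  classical
  have := Fintype.ofFinite X
  have := Fintype.ofFinite Ω
  obtain ⟨ω, ω', hω⟩ := Finite.one_lt_card_iff_nontrivial.1 hm
  have : Nonempty Ω := ⟨ω⟩
  have hN : (0 : ℝ) < Fintype.card Ω := by exact_mod_cast Fintype.card_pos
  rw [Nat.card_eq_fintype_card (α := Ω)]
  obtain ⟨b0, h1⟩ := lind (X := X) ω hd
    ((h ω ω' hω).trans ((Set.ncard_le_card _).trans Nat.card_eq_fintype_card.le)) (fun u v huv => by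
      have h2 := avg (X := X) Finset.univ (fun _ _ _ => Finset.mem_univ _)
        (fun a _ b _ => exists_smul_eq X a b)
        (fun z : Ω => if z ∈ {z : Ω | ∀ x : X, x • z = z → x • u ≠ v} then 1 else 0) ω
        (Finset.mem_univ _)
      rw [ind_sum, Finset.card_univ] at h2
      rw [← ind_sum, div_mul_eq_mul_div, div_le_iff₀ hN]
      have h3 : (d : ℝ) ≤ _ := Nat.cast_le.2 (h u v huv)
      have h4 := mul_le_mul_of_nonneg_left h3 (Nat.cast_nonneg (α := ℝ) (Fintype.card X))
      rw [← h2] at h4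
      simp only [Set.mem_setOf_eq] at h4 ⊢
      linarith) l hl
  have h2 := h1 ⊤
  rw [Subgroup.card_top] at h2
  refine h2.trans (add_le_add_right (mul_le_mul_of_nonneg_left (sub_le_sub_right ?_ 1) b0) _)
  rw [div_le_iff₀ hN, YY_eq]
  have := Finset.sum_le_sum (s := Finset.univ) fun (u : Ω) _ =>
    (show ((orbit (⊤ : Subgroup X) u).ncard : ℝ) ≤ Fintype.card Ω by
      exact_mod_cast (Set.ncard_le_card _).trans Nat.card_eq_fintype_card.le)
  simpa using this

end Cfsg.Agent.H8.Pot
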